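import Mathlib

/-!
# Cokernels of `lift t (lift a b)` in abelian categories
-/

universe v u v' u'

open CategoryTheory CategoryTheory.Limits

noncomputable section

namespace Groth.Agent.Lib.JumpP1.Coker

variable {C : Type u} [Category.{v} C] [Abelian C]

theorem lift_comp {A U V Z : C} (u : A ⟶ U) (v : A ⟶ V) (x : U ⊞ V ⟶ Z) :
    biprod.lift u v ≫ x = u ≫ biprod.inl ≫ x + v ≫ biprod.inr ≫ x := by
  rw [biprod.lift_eq, Preadditive.add_comp, Category.assoc, Category.assoc]

/-- If `t` is invertible the cokernel of `lift t e` is the target of `e`. -/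
def isoOfIso {A A' E : C} (t : A ⟶ A') [IsIso t] (e : A ⟶ E) :
    cokernel (biprod.lift t e) ≅ E where
  hom := cokernel.desc _ (biprod.desc (-(inv t ≫ e)) (𝟙 E))
    (by rw [biprod.lift_desc]; simp)
  inv := biprod.inr ≫ cokernel.π _
  hom_inv_id := by
    apply coequalizer.hom_ext
    apply biprod.hom_ext'
    · have h := cokernel.condition (biprod.lift t e)
      rw [lift_comp, add_eq_zero_iff_eq_neg] at h
      rw [cokernel.π_desc_assoc, biprod.inl_desc_assoc, Preadditive.neg_comp, Category.comp_id]
      rw [Category.assoc, ← Preadditive.comp_neg, ← h, IsIso.inv_hom_id_assoc]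
    · simp
  inv_hom_id := by simp

/-- The cokernel of `lift 0 e`. -/
def isoZero {A A' E : C} (t : A ⟶ A') (ht : t = 0) (e : A ⟶ E) :
    cokernel (biprod.lift t e) ≅ A' ⊞ cokernel e where
  hom := cokernel.desc _ (biprod.map (𝟙 A') (cokernel.π e))
    (by subst ht; apply biprod.hom_ext <;> simp)
  inv := biprod.desc (biprod.inl ≫ cokernel.π _)
    (cokernel.desc e (biprod.inr ≫ cokernel.π _) (by
      have h := cokernel.condition (biprod.lift t e)
      rw [lift_comp] at h
      simpa [ht] using h))
  hom_inv_id := by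
    apply coequalizer.hom_ext
    apply biprod.hom_ext' <;> simp
  inv_hom_id := by
    apply biprod.hom_ext'
    · simp
    · rw [biprod.inr_desc_assoc]
      apply coequalizer.hom_ext
      simp

/-- If the last component is invertible, the cokernel is the sum of the other two targets. -/
def isoLast {A U V W : C} (u : A ⟶ U) (v : A ⟶ V) (w : A ⟶ W) [IsIso w] :
    cokernel (biprod.lift u (biprod.lift v w)) ≅ U ⊞ V where
  hom := cokernel.desc _ (biprod.desc biprod.inl (biprod.desc biprod.inr (-(inv w ≫ biprod.lift u v))))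
    (by rw [biprod.lift_desc, biprod.lift_desc]; simp [biprod.lift_eq])
  inv := biprod.desc (biprod.inl ≫ cokernel.π _) (biprod.inl ≫ biprod.inr ≫ cokernel.π _)
  hom_inv_id := by
    apply coequalizer.hom_ext
    have h := cokernel.condition (biprod.lift u (biprod.lift v w))
    rw [lift_comp, lift_comp, ← add_assoc, add_eq_zero_iff_eq_neg] at h
    apply biprod.hom_ext'
    · simp
    · apply biprod.hom_ext'
      · simp
      · simp only [cokernel.π_desc_assoc, biprod.inr_desc_assoc, Category.comp_id, Preadditive.neg_comp,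
          Category.assoc]
        rw [biprod.lift_desc, h, Preadditive.comp_neg, IsIso.inv_hom_id_assoc]
        simp
  inv_hom_id := by
    apply biprod.hom_ext' <;> simp

/-- If the middle component is invertible, the cokernel is the sum of the other two targets. -/
def isoMid {A U V W : C} (u : A ⟶ U) (v : A ⟶ V) (w : A ⟶ W) [IsIso v] :
    cokernel (biprod.lift u (biprod.lift v w)) ≅ U ⊞ W :=
  cokernel.mapIso (biprod.lift u (biprod.lift v w)) (biprod.lift u (biprod.lift w v)) (Iso.refl A)
    (biprod.mapIso (Iso.refl U) (biprod.braiding V W))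
    (by apply biprod.hom_ext <;> [simp; (apply biprod.hom_ext <;> simp)]) ≪≫ isoLast u w v

variable {D : Type u'} [Category.{v'} D] [Abelian D] (G : C ⥤ D) [G.Additive]

/-- `G (lift u e)` in the biproduct of the images. -/
theorem map_lift {A U E : C} (u : A ⟶ U) (e : A ⟶ E) [PreservesBinaryBiproduct U E G] :
    G.map (biprod.lift u e) ≫ (G.mapBiprod U E).hom = biprod.lift (G.map u) (G.map e) := by
  have h₁ : (G.mapBiprod U E).hom ≫ biprod.fst = G.map biprod.fst := by
    rw [Functor.mapBiprod_hom]; exact biprod.lift_fst _ _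
  have h₂ : (G.mapBiprod U E).hom ≫ biprod.snd = G.map biprod.snd := by
    rw [Functor.mapBiprod_hom]; exact biprod.lift_snd _ _
  apply biprod.hom_ext
  · rw [Category.assoc, h₁, ← G.map_comp, biprod.lift_fst, biprod.lift_fst]
  · rw [Category.assoc, h₂, ← G.map_comp, biprod.lift_snd, biprod.lift_snd]

/-- Right exact additive functors and `cokernel (lift u e)`. -/
def mapIso₂ {A U E : C} (u : A ⟶ U) (e : A ⟶ E) [PreservesColimit (parallelPair (biprod.lift u e) 0) G] :
    G.obj (cokernel (biprod.lift u e)) ≅ cokernel (biprod.lift (G.map u) (G.map e)) :=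
  haveI := preservesBinaryBiproducts_of_preservesBiproducts G
  PreservesCokernel.iso G _ ≪≫ cokernel.mapIso (G.map (biprod.lift u e)) _ (Iso.refl _) (G.mapBiprod U E)
    (by rw [Iso.refl_hom, Category.id_comp]; exact map_lift G u e)

/-- Right exact additive functors and `cokernel (lift u (lift v w))`. -/
def mapIso₃ {A U V W : C} (u : A ⟶ U) (v : A ⟶ V) (w : A ⟶ W)
    [PreservesColimit (parallelPair (biprod.lift u (biprod.lift v w)) 0) G] :
    G.obj (cokernel (biprod.lift u (biprod.lift v w))) ≅
      cokernel (biprod.lift (G.map u) (biprod.lift (G.map v) (G.map w))) :=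
  haveI := preservesBinaryBiproducts_of_preservesBiproducts G
  mapIso₂ G u (biprod.lift v w) ≪≫
    cokernel.mapIso _ _ (Iso.refl _) (biprod.mapIso (Iso.refl _) (G.mapBiprod V W))
      (by
        rw [Iso.refl_hom, Category.id_comp]
        apply biprod.hom_ext
        · simp
        · rw [← map_lift G v w]
          simp)

/-- A right exact functor makes the comparison to the fourth corner invertible as soon as one parallel
pair of sides becomes invertible. -/
theorem isIso_map_corner {A B B' D' : C} (a : A ⟶ B) (b : A ⟶ B') (b' : B ⟶ D') (a' : B' ⟶ D')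
    (w : a ≫ b' = b ≫ a') [PreservesColimit (parallelPair (biprod.lift a b) 0) G]
    (h : IsIso (G.map a) ∧ IsIso (G.map a') ∨ IsIso (G.map b) ∧ IsIso (G.map b')) :
    IsIso (G.map (cokernel.desc (biprod.lift a b) (biprod.desc b' (-a'))
      (by rw [biprod.lift_desc, Preadditive.comp_neg, w, add_neg_cancel]))) := by
  set φ := cokernel.desc (biprod.lift a b) (biprod.desc b' (-a')) _
  let π := G.map (cokernel.π (biprod.lift a b))
  have hπ : Epi π := by
    have : G.map (cokernel.π (biprod.lift a b)) ≫ (PreservesCokernel.iso G (biprod.lift a b)).hom =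
      cokernel.π (G.map (biprod.lift a b)) := PreservesCokernel.π_iso_hom G _
    have h' : Epi (π ≫ (PreservesCokernel.iso G (biprod.lift a b)).hom) := by rw [this]; infer_instance
    exact (epi_comp_iff_of_isIso π _).1 h'
  have e : ∀ {Z : D} (x y : G.obj (cokernel (biprod.lift a b)) ⟶ Z),
      G.map biprod.inl ≫ π ≫ x = G.map biprod.inl ≫ π ≫ y →
      G.map biprod.inr ≫ π ≫ x = G.map biprod.inr ≫ π ≫ y → x = y := fun x y h₁ h₂ => by
    apply hπ.left_cancellation
    have hid : 𝟙 (G.obj (B ⊞ B')) = G.map biprod.fst ≫ G.map biprod.inl + G.map biprod.snd ≫ G.map biprod.inr := by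
      rw [← G.map_comp, ← G.map_comp, ← G.map_add, biprod.total, G.map_id]
    rw [← Category.id_comp (π ≫ x), ← Category.id_comp (π ≫ y), hid, Preadditive.add_comp,
      Preadditive.add_comp, Category.assoc, Category.assoc, h₁, h₂]
    simp
  have h₀ : G.map a ≫ G.map biprod.inl ≫ π + G.map b ≫ G.map biprod.inr ≫ π = 0 := by
    simp only [π, ← G.map_comp, ← G.map_add]
    rw [← Category.assoc, ← Category.assoc, ← Preadditive.add_comp, ← biprod.lift_eq, cokernel.condition,
      G.map_zero]
  have hw : G.map a ≫ G.map b' = G.map b ≫ G.map a' := by rw [← G.map_comp, w, G.map_comp]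
  have hl : G.map biprod.inl ≫ π ≫ G.map φ = G.map b' := by simp [π, φ, ← G.map_comp]
  have hr : G.map biprod.inr ≫ π ≫ G.map φ = -G.map a' := by simp [π, φ, ← G.map_comp]
  rcases h with ⟨ha, ha'⟩ | ⟨hb, hb'⟩
  · refine ⟨-(inv (G.map a') ≫ G.map biprod.inr ≫ π), e _ _ ?_ ?_, ?_⟩
    · rw [reassoc_of% hl, Preadditive.comp_neg, Category.comp_id]
      have h1 : G.map biprod.inl ≫ π = -(inv (G.map a) ≫ G.map b ≫ G.map biprod.inr ≫ π) := by
        rw [← Preadditive.comp_neg, IsIso.eq_inv_comp]
        exact eq_neg_of_add_eq_zero_left h₀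
      have h2 : G.map b' = inv (G.map a) ≫ G.map b ≫ G.map a' := (IsIso.eq_inv_comp _).2 hw
      rw [h1, h2]
      simp
    · rw [reassoc_of% hr]
      simp
    · rw [Preadditive.neg_comp]
      simp only [Category.assoc, hr, Preadditive.comp_neg, IsIso.inv_hom_id, neg_neg]
  · refine ⟨inv (G.map b') ≫ G.map biprod.inl ≫ π, e _ _ ?_ ?_, ?_⟩
    · rw [reassoc_of% hl]
      simp
    · rw [reassoc_of% hr, Category.comp_id, Preadditive.neg_comp]
      have h1 : G.map biprod.inr ≫ π = -(inv (G.map b) ≫ G.map a ≫ G.map biprod.inl ≫ π) := by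
        rw [← Preadditive.comp_neg, IsIso.eq_inv_comp]
        exact eq_neg_of_add_eq_zero_right h₀
      have h2 : G.map a' = inv (G.map b) ≫ G.map a ≫ G.map b' := (IsIso.eq_inv_comp _).2 hw.symm
      rw [h1, h2]
      simp
    · simp only [Category.assoc, hl, IsIso.inv_hom_id]

end Groth.Agent.Lib.JumpP1.Coker
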