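import Groth.Agent.Lib.JumpP1.Model
import Groth.Prelude.Def_PicLoc
import Groth.Prelude.Def_KLin
import Groth.Prelude.Def_Formal

/-!
# A family of rank two bundles on the projective line whose splitting type jumps
-/

set_option autoImplicit false

universe u

open CategoryTheory CategoryTheory.Limits AlgebraicGeometry TopologicalSpace Opposite Polynomial

noncomputable section

namespace Groth.Agent.Lib.JumpP1.Family

open Groth.Agent.Lib Groth.Agent.Lib.ProjCoh.Coherent Groth.Agent.Lib.ProjKoszul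

theorem smulModΓ_app {X : Scheme.{u}} (M : X.Modules) (r : Coh.Γtop X) (U : X.Opens) (s : Γ(M, U)) :
    (Formal.smulModΓ M r).app U s =
      (X.presheaf.map (homOfLE (le_top (a := U))).op r : Γ(X, U)) • s := rfl

theorem map_smul_aux {X Y : Scheme.{u}} (f : X ⟶ Y) {N : Y.Modules} {P : X.Modules}
    (η : N ⟶ (Scheme.Modules.pushforward f).obj P) (r : Coh.Γtop Y) (U : Y.Opens) (s : Γ(N, U)) :
    η.app U ((Formal.smulModΓ N r).app U s) =
      (Formal.smulModΓ P (f.appTop r)).app (f ⁻¹ᵁ U) (η.app U s) := by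
  let x : Γ(P, f ⁻¹ᵁ U) := η.app U s
  have h : η.app U ((Y.presheaf.map (homOfLE (le_top (a := U))).op r : Γ(Y, U)) • s) =
      (Y.presheaf.map (homOfLE (le_top (a := U))).op r : Γ(Y, U)) • η.app U s :=
    Scheme.Modules.Hom.app_smul η _ s
  refine h.trans ?_
  show (f.app U (Y.presheaf.map (homOfLE (le_top (a := U))).op r)) • x =
    (X.presheaf.map (homOfLE (le_top (a := f ⁻¹ᵁ U))).op (f.appTop r) : Γ(X, f ⁻¹ᵁ U)) • x
  exact congrArg (· • x) (ConcreteCategory.congr_hom (f.naturality (homOfLE (le_top (a := U))).op) r)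

theorem pullback_smul {X Y : Scheme.{u}} (f : X ⟶ Y) (N : Y.Modules) (r : Coh.Γtop Y) :
    (Scheme.Modules.pullback f).map (Formal.smulModΓ N r) =
      Formal.smulModΓ ((Scheme.Modules.pullback f).obj N) (f.appTop r) := by
  apply ((Scheme.Modules.pullbackPushforwardAdjunction f).homEquiv _ _).injective
  rw [Adjunction.homEquiv_unit, Adjunction.homEquiv_unit]
  refine ((Scheme.Modules.pullbackPushforwardAdjunction f).unit.naturality _).symm.trans ?_
  ext U s
  exact map_smul_aux f ((Scheme.Modules.pullbackPushforwardAdjunction f).unit.app N) r U s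

theorem isIso_smul {X : Scheme.{u}} (M : X.Modules) {r : Coh.Γtop X} (h : IsUnit r) :
    IsIso (Formal.smulModΓ M r) := by
  obtain ⟨v, rfl⟩ := h
  refine ⟨Formal.smulModΓ M (↑v⁻¹ : Coh.Γtop X), ?_, ?_⟩
  · rw [← KLin.smulModΓ_mul, Units.mul_inv, KLin.smulModΓ_one]
  · rw [← KLin.smulModΓ_mul, Units.inv_mul, KLin.smulModΓ_one]

instance additive_pullback {X Y : Scheme.{u}} (f : X ⟶ Y) : (Scheme.Modules.pullback f).Additive := by
  haveI := (Scheme.Modules.pullbackPushforwardAdjunction f).leftAdjoint_preservesColimits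
  haveI := preservesBinaryBiproducts_of_preservesBinaryCoproducts (Scheme.Modules.pullback f)
  exact Functor.additive_of_preservesBinaryBiproducts _

variable (R : Type u) [CommRing R]

local notation "Q" => CohB1.ProjSpaceOver 1 (Spec (CommRingCat.of R[X]))
local notation "L" => CohB1.ProjSpaceOver 1 (Spec (CommRingCat.of R))

/-- The projection to the fixed projective line. -/
def proj : CohB1.ProjSpaceOver 1 (Spec (CommRingCat.of R[X])) ⟶ CohB1.ProjSpace 1 R :=
  ProjSpace.BaseChange.overMap 1 (Spec.map (CommRingCat.ofHom (Polynomial.C : R →+* R[X]))) ≫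
    (ProjSpace.BaseChange.overSpecIso 1 R).hom

/-- The coordinate of the affine line. -/
def coord : Coh.Γtop (CohB1.ProjSpaceOver 1 (Spec (CommRingCat.of R[X]))) :=
  (CohB1.ProjSpaceOver.toBase 1 (Spec (CommRingCat.of R[X]))).appTop
    ((Scheme.ΓSpecIso (CommRingCat.of R[X])).inv X)

variable (d : ℤ) (m : ℕ)

local notation "P!" => Scheme.Modules.pullback (proj R)

/-- The family: the cokernel of `(t, x^m, y)`. -/
def F : (CohB1.ProjSpaceOver 1 (Spec (CommRingCat.of R[X]))).Modules :=
  cokernel (biprod.lift (Formal.smulModΓ ((Scheme.Modules.pullback (proj R)).obj (tw 1 R d)) (coord R))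
    (biprod.lift ((Scheme.Modules.pullback (proj R)).map (Model.a R d m))
      ((Scheme.Modules.pullback (proj R)).map (Model.b₀ R d))))

theorem isInvertible_B : PicF.IsInvertible (Model.B R d m) := by
  obtain ⟨e⟩ := Model.nonempty_iso_B R d m _ rfl
  exact TensorMod.Invertible.isInvertible_of_iso e.symm (isInvertible_tw _)

theorem isInvertible_rest {X : Scheme.{u}} {M : X.Modules} (hM : PicF.IsInvertible M) (U : X.Opens) :
    PicF.IsInvertible ((Scheme.Modules.restrictFunctor U.ι).obj M) :=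
  TensorMod.Invertible.isInvertible_of_iso ((Scheme.Modules.restrictFunctorIsoPullback U.ι).app M).symm
    (PicLoc.isInvertible_pullback _ hM)

theorem isIso_rest {X Y : Scheme.{u}} (p : X ⟶ Y) (V : Y.Opens) {M N : Y.Modules} (φ : M ⟶ N)
    (h : IsIso ((Scheme.Modules.pullback V.ι).map φ)) :
    IsIso ((Scheme.Modules.restrictFunctor (p ⁻¹ᵁ V).ι).map ((Scheme.Modules.pullback p).map φ)) := by
  rw [NatIso.isIso_map_iff (Scheme.Modules.restrictFunctorIsoPullback (p ⁻¹ᵁ V).ι)]
  have h' : IsIso ((Scheme.Modules.pullback V.ι ⋙ Scheme.Modules.pullback (p ∣_ V)).map φ) :=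
    Functor.map_isIso (Scheme.Modules.pullback (p ∣_ V)) _
  have e : Scheme.Modules.pullback V.ι ⋙ Scheme.Modules.pullback (p ∣_ V) ≅
      Scheme.Modules.pullback p ⋙ Scheme.Modules.pullback (p ⁻¹ᵁ V).ι :=
    Scheme.Modules.pullbackComp _ _ ≪≫ Scheme.Modules.pullbackCongr (morphismRestrict_ι p V) ≪≫
      (Scheme.Modules.pullbackComp _ _).symm
  exact (NatIso.isIso_map_iff e φ).1 h'

theorem rank : FlatMod.IsFinLocFreeOfRank 2 (F R d m) := by
  refine Rank.rank_of_locally fun x => ?_
  obtain ⟨t, ht⟩ := Mult.exists_mem_chart ((proj R) x)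
  let U := proj R ⁻¹ᵁ Mult.chart 1 R t
  let G := Scheme.Modules.restrictFunctor U.ι
  refine ⟨U, ht, ?_⟩
  let e := Coker.mapIso₃ G (Formal.smulModΓ ((P!).obj (tw 1 R d)) (coord R)) ((P!).map (Model.a R d m))
    ((P!).map (Model.b₀ R d))
  have hA := isInvertible_rest (PicLoc.isInvertible_pullback (proj R) (isInvertible_tw (n := 1) (R := R) d)) U
  rcases Model.isIso_pb_pair R d m t with ⟨ha, -⟩ | ⟨hb, -⟩
  · have := isIso_rest (proj R) _ _ ha
    refine Rank.rank_of_iso (e ≪≫ Coker.isoMid _ _ _).symm (Rank.rank_biprod hA ?_)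
    exact isInvertible_rest (PicLoc.isInvertible_pullback _ (isInvertible_B R d 1)) U
  · have := isIso_rest (proj R) _ _ hb
    refine Rank.rank_of_iso (e ≪≫ Coker.isoLast _ _ _).symm (Rank.rank_biprod hA ?_)
    exact isInvertible_rest (PicLoc.isInvertible_pullback _ (isInvertible_B R d m)) U

variable (c : R)

/-- The fibre over `t = c`. -/
abbrev fib : CohB1.ProjSpaceOver 1 (Spec (CommRingCat.of R)) ⟶
    CohB1.ProjSpaceOver 1 (Spec (CommRingCat.of R[X])) :=
  pullback.lift (pullback.fst _ _)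
    (pullback.snd _ _ ≫ Spec.map (CommRingCat.ofHom (Polynomial.evalRingHom c)))
    (specULiftZIsTerminal.hom_ext _ _)

theorem fib_proj : fib R c ≫ proj R = (ProjSpace.BaseChange.overSpecIso 1 R).hom := by
  have h : fib R c ≫ ProjSpace.BaseChange.overMap 1 (Spec.map (CommRingCat.ofHom (Polynomial.C : R →+* R[X]))) = 𝟙 _ := by
    apply pullback.hom_ext
    · exact (Category.assoc _ _ _).trans ((congrArg (fib R c ≫ ·) (ProjSpace.BaseChange.overMap_fst 1 _)).trans
        ((pullback.lift_fst _ _ _).trans (Category.id_comp _).symm))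
    · refine (Category.assoc _ _ _).trans
        ((congrArg (fib R c ≫ ·) (ProjSpace.BaseChange.overMap_toBase 1 _)).trans ?_)
      refine (pullback.lift_snd_assoc _ _ _ _).trans (Eq.trans ?_ (Category.id_comp _).symm)
      refine (Category.assoc _ _ _).trans ?_
      rw [← Spec.map_comp,
        show CommRingCat.ofHom (Polynomial.C : R →+* R[X]) ≫ CommRingCat.ofHom (Polynomial.evalRingHom c) = 𝟙 _ from
          CommRingCat.hom_ext (RingHom.ext fun r => Polynomial.eval_C), Spec.map_id]
      exact Category.comp_id _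
  rw [proj, reassoc_of% h]

theorem fib_coord : (fib R c).appTop (coord R) =
    (CohB1.ProjSpaceOver.toBase 1 (Spec (CommRingCat.of R))).appTop ((Scheme.ΓSpecIso (CommRingCat.of R)).inv c) := by
  have h : fib R c ≫ CohB1.ProjSpaceOver.toBase 1 (Spec (CommRingCat.of R[X])) =
      CohB1.ProjSpaceOver.toBase 1 (Spec (CommRingCat.of R)) ≫ Spec.map (CommRingCat.ofHom (Polynomial.evalRingHom c)) :=
    pullback.lift_snd _ _ _
  have h' := ConcreteCategory.congr_hom (congrArg Scheme.Hom.appTop h)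
    ((Scheme.ΓSpecIso (CommRingCat.of R[X])).inv X)
  rw [Scheme.Hom.comp_appTop, Scheme.Hom.comp_appTop, CommRingCat.comp_apply, CommRingCat.comp_apply] at h'
  refine h'.trans (congrArg _ ?_)
  have h'' := ConcreteCategory.congr_hom
    (Scheme.ΓSpecIso_inv_naturality (CommRingCat.ofHom (Polynomial.evalRingHom c))) X
  rw [CommRingCat.comp_apply, CommRingCat.comp_apply] at h''
  rw [← h'']
  exact congrArg _ Polynomial.eval_X

/-- Pulling back the fixed modules to the fibre. -/
def fibIso : Scheme.Modules.pullback (proj R) ⋙ Scheme.Modules.pullback (fib R c) ≅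
    Scheme.Modules.pullback (ProjSpace.BaseChange.overSpecIso 1 R).hom :=
  Scheme.Modules.pullbackComp _ _ ≪≫ Scheme.Modules.pullbackCongr (fib_proj R c)

theorem nonempty_fib_iso {M : (CohB1.ProjSpace 1 R).Modules} {e : ℤ} (i : M ≅ tw 1 R e) :
    Nonempty ((Scheme.Modules.pullback (fib R c)).obj ((Scheme.Modules.pullback (proj R)).obj M) ≅
      Twist.twistOver 1 (Spec (CommRingCat.of R)) e) := by
  obtain ⟨j⟩ := Model.nonempty_twistOver R e
  exact ⟨(fibIso R c).app M ≪≫ (Scheme.Modules.pullback _).mapIso i ≪≫ j⟩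

/-- The fibre over a unit. -/
theorem fibre_unit (hc : IsUnit c) {e e' : ℤ} (he : d + m = e) (he' : d + 1 = e') :
    Nonempty ((Scheme.Modules.pullback (fib R c)).obj (F R d m) ≅
      Twist.twistOver 1 (Spec (CommRingCat.of R)) e ⊞ Twist.twistOver 1 (Spec (CommRingCat.of R)) e') := by
  let G := Scheme.Modules.pullback (fib R c)
  have : IsIso (G.map (Formal.smulModΓ ((P!).obj (tw 1 R d)) (coord R))) := by
    have h : IsUnit ((fib R c).appTop (coord R)) := (fib_coord R c).symm ▸ (hc.map _).map _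
    rw [pullback_smul]
    exact isIso_smul _ h
  obtain ⟨i⟩ := Model.nonempty_iso_B R d m e he
  obtain ⟨i'⟩ := Model.nonempty_iso_B R d 1 e' (by exact_mod_cast he')
  obtain ⟨j⟩ := nonempty_fib_iso R c i
  obtain ⟨j'⟩ := nonempty_fib_iso R c i'
  exact ⟨Coker.mapIso₃ G _ _ _ ≪≫ Coker.isoOfIso _ _ ≪≫ biprod.mapIso j j'⟩

/-- The fibre over zero. -/
theorem fibre_zero (hc : c = 0) {e : ℤ} (he : d + (m + 1 : ℕ) = e) :
    Nonempty ((Scheme.Modules.pullback (fib R c)).obj (F R d m) ≅
      Twist.twistOver 1 (Spec (CommRingCat.of R)) e ⊞ Twist.twistOver 1 (Spec (CommRingCat.of R)) d) := by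
  let G := Scheme.Modules.pullback (fib R c)
  have ht : G.map (Formal.smulModΓ ((P!).obj (tw 1 R d)) (coord R)) = 0 := by
    refine (pullback_smul _ _ _).trans ?_
    refine (congrArg (Formal.smulModΓ _) ((fib_coord R c).trans ?_)).trans (KLin.smulModΓ_zero _)
    rw [hc]
    exact (congrArg _ (map_zero _)).trans (map_zero _)
  have := Model.isIso_corner R d m
  obtain ⟨i⟩ := Model.nonempty_iso_B R d (m + 1) e he
  obtain ⟨j⟩ := nonempty_fib_iso R c (Iso.refl (tw 1 R d))
  obtain ⟨k⟩ := nonempty_fib_iso R c (asIso (Model.corner R d m) ≪≫ i)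
  let K := Coker.mapIso₂ (Scheme.Modules.pullback (proj R) ⋙ G) (Model.a R d m) (Model.b₀ R d)
  exact ⟨Coker.mapIso₃ G _ _ _ ≪≫ Coker.isoZero _ ht _ ≪≫ biprod.braiding _ _ ≪≫
    biprod.mapIso (K.symm ≪≫ k) j⟩

end Groth.Agent.Lib.JumpP1.Family
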