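import Groth.Agent.Lib.TensorMod.Invertible
import Groth.Agent.Lib.TensorMod.Basis
import Groth.Agent.Lib.TensorMod.TensorInv

/-!
# Rank two: sums of two invertible modules; locality
-/

set_option autoImplicit false

universe u

open CategoryTheory CategoryTheory.Limits AlgebraicGeometry TopologicalSpace Opposite

noncomputable section

namespace Groth.Agent.Lib.JumpP1.Rank

open Groth.Agent.Lib TensorMod TensorMod.Dual TensorMod.Gen TensorMod.Basis

variable {X : Scheme.{u}}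

theorem app_rs' {M N : X.Modules} (φ : M ⟶ N) {U V : X.Opens} (h : V ≤ U) (x : Γ(M, U)) :
    φ.app V (rs M h x) = rs N h (φ.app U x) :=
  (ConcreteCategory.congr_hom (φ.mapPresheaf.naturality (homOfLE h).op) x :)

theorem rank_biprod {A B : X.Modules} (hA : PicF.IsInvertible A) (hB : PicF.IsInvertible B) :
    FlatMod.IsFinLocFreeOfRank 2 (A ⊞ B) := fun x => by
  obtain ⟨U, g, hxU, hg⟩ := isInvertible_iff.1 hA x
  obtain ⟨V, h, hxV, hh⟩ := isInvertible_iff.1 hB x
  let iA : A ⟶ A ⊞ B := biprod.inl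
  let iB : B ⟶ A ⊞ B := biprod.inr
  let pA : A ⊞ B ⟶ A := biprod.fst
  let pB : A ⊞ B ⟶ B := biprod.snd
  let g' := rs A (inf_le_left : U ⊓ V ≤ U) g
  let h' := rs B (inf_le_right : U ⊓ V ≤ V) h
  have hg' : IsGen A (U ⊓ V) g' := hg.res _
  have hh' : IsGen B (U ⊓ V) h' := hh.res _
  let e : Fin 2 → Γ(A ⊞ B, U ⊓ V) := ![iA.app _ g', iB.app _ h']
  refine ⟨U ⊓ V, ⟨hxU, hxV⟩, exists_iso_of_basis (e := e) fun W hW => ?_⟩
  have key : ∀ a : Fin 2 → Γ(X, W), comb e hW a =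
      iA.app W (a 0 • rs A hW g') + iB.app W (a 1 • rs B hW h') := fun a => by
    simp only [comb, Fin.sum_univ_two, e, Matrix.cons_val_zero, Matrix.cons_val_one,
      Scheme.Modules.Hom.app_smul, app_rs']
  have hAA : ∀ z, pA.app W (iA.app W z) = z := fun z =>
    congr(Scheme.Modules.Hom.app $(biprod.inl_fst (X := A) (Y := B)) W z)
  have hBB : ∀ z, pB.app W (iB.app W z) = z := fun z =>
    congr(Scheme.Modules.Hom.app $(biprod.inr_snd (X := A) (Y := B)) W z)
  have hAB : ∀ z, pB.app W (iA.app W z) = 0 := fun z =>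
    congr(Scheme.Modules.Hom.app $(biprod.inl_snd (X := A) (Y := B)) W z)
  have hBA : ∀ z, pA.app W (iB.app W z) = 0 := fun z =>
    congr(Scheme.Modules.Hom.app $(biprod.inr_fst (X := A) (Y := B)) W z)
  refine ⟨fun a b hab => ?_, fun y => ?_⟩
  · rw [key, key] at hab
    have h1 := congrArg (pA.app W) hab
    have h2 := congrArg (pB.app W) hab
    rw [map_add, map_add, hAA, hAA, hBA, hBA, add_zero, add_zero] at h1
    rw [map_add, map_add, hBB, hBB, hAB, hAB, zero_add, zero_add] at h2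
    funext k
    fin_cases k
    · exact (hg' W hW).1 h1
    · exact (hh' W hW).1 h2
  · obtain ⟨a, ha⟩ := (hg' W hW).2 (pA.app W y)
    obtain ⟨b, hb⟩ := (hh' W hW).2 (pB.app W y)
    refine ⟨![a, b], ?_⟩
    rw [key]
    simp only [Matrix.cons_val_zero, Matrix.cons_val_one]
    rw [show a • rs A hW g' = pA.app W y from ha, show b • rs B hW h' = pB.app W y from hb]
    exact congr(Scheme.Modules.Hom.app $(biprod.total (X := A) (Y := B)) W y)

theorem rank_of_iso {M N : X.Modules} {r : ℕ} (e : M ≅ N) (h : FlatMod.IsFinLocFreeOfRank r M) :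
    FlatMod.IsFinLocFreeOfRank r N := fun x => by
  obtain ⟨U, hx, ⟨i⟩⟩ := h x
  exact ⟨U, hx, ⟨(Scheme.Modules.restrictFunctor U.ι).mapIso e.symm ≪≫ i⟩⟩

theorem rank_of_locally {M : X.Modules} {r : ℕ}
    (h : ∀ x : X, ∃ U : X.Opens, x ∈ U ∧ FlatMod.IsFinLocFreeOfRank r (M.restrict U.ι)) :
    FlatMod.IsFinLocFreeOfRank r M := by
  intro x
  obtain ⟨U, hx, hU⟩ := h x
  obtain ⟨W, hW, ⟨i⟩⟩ := hU ⟨x, hx⟩
  obtain ⟨e, he⟩ := TensorMod.Basis.exists_basis_of_iso i
  obtain ⟨e', he'⟩ := TensorMod.TensorInv.exists_basis_image W he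
  exact ⟨U.ι ''ᵁ W, ⟨⟨x, hx⟩, hW, rfl⟩, TensorMod.Basis.exists_iso_of_basis he'⟩

end Groth.Agent.Lib.JumpP1.Rank
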