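import Groth.Agent.Lib.JumpP1.Coker
import Groth.Agent.Lib.JumpP1.Rank
import Groth.Agent.Lib.ProjKoszul.Mult
import Groth.Agent.Lib.Modules.Local
import Groth.Agent.Lib.ProjSpace.TwistBC

/-!
# The Koszul square of `x^m` and `y` on the projective line
-/

set_option autoImplicit false

universe u

open CategoryTheory CategoryTheory.Limits AlgebraicGeometry TopologicalSpace Opposite

noncomputable section

namespace Groth.Agent.Lib.JumpP1.Model

open Groth.Agent.Lib Groth.Agent.Lib.ProjCoh.Coherent TensorMod.Basic TensorMod.Pullback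
  Groth.Agent.Lib.ProjKoszul

variable (R : Type u) [CommRing R]

local notation "P" => CohB1.ProjSpace 1 R
local notation "T" => tensorBy (tw 1 R 1)

/-- `A ⊗ O(m)`, iteratively. -/
def B (d : ℤ) : ℕ → (CohB1.ProjSpace 1 R).Modules
  | 0 => tw 1 R d
  | m + 1 => (tensorBy (tw 1 R 1)).obj (B d m)

/-- Multiplication by `x^m`. -/
def a (d : ℤ) : ∀ m, tw 1 R d ⟶ B R d m
  | 0 => 𝟙 _
  | m + 1 => a d m ≫ (Mult.mulX (0 : Fin 2)).app (B R d m)

/-- `O(d)` twisted `m` times is `O(d + m)`. -/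
theorem nonempty_iso_B (d : ℤ) : ∀ (m : ℕ) (e : ℤ), d + m = e → Nonempty (B R d m ≅ tw 1 R e)
  | 0, e, h => ⟨eqToIso (by rw [← h]; simp [B])⟩
  | m + 1, e, h => by
    obtain ⟨i⟩ := nonempty_iso_B d m (d + m) rfl
    exact ⟨tensorIso i (Iso.refl _) ≪≫ twTensor (d + m) 1 ≪≫ eqToIso (by rw [← h]; push_cast; rw [add_assoc])⟩

variable {R}

theorem isIso_pb_tmap {X Y : Scheme.{u}} (j : Y ⟶ X) {M N L : X.Modules} (φ : M ⟶ N)
    (h : IsIso ((pb j).map φ)) : IsIso ((pb j).map (tmap φ (𝟙 L))) := by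
  have hnat : (pullbackTensorIso j M L).hom ≫ tmap ((pb j).map φ) (𝟙 ((pb j).obj L)) =
      (pb j).map (tmap φ (𝟙 L)) ≫ (pullbackTensorIso j N L).hom := by
    rw [← CategoryTheory.Functor.map_id]
    exact (delta_natural j φ (𝟙 L)).symm
  have : IsIso (tmap ((pb j).map φ) (𝟙 ((pb j).obj L))) :=
    (tensorIso (asIso ((pb j).map φ)) (Iso.refl _)).isIso_hom
  have e := congrArg (· ≫ (pullbackTensorIso j N L).inv) hnat
  simp only [Category.assoc, Iso.hom_inv_id, Category.comp_id] at e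
  rw [← e]
  infer_instance

theorem isIso_pb_a (d : ℤ) : ∀ m, IsIso ((pb (Mult.chart 1 R 0).ι).map (a R d m))
  | 0 => Functor.map_isIso _ (𝟙 _)
  | m + 1 => by
    have := isIso_pb_a d m
    have := Mult.isIso_pb_mulX (R := R) (0 : Fin 2) (B R d m)
    have h := Functor.map_comp (pb (Mult.chart 1 R 0).ι) (a R d m) ((Mult.mulX (0 : Fin 2)).app (B R d m))
    show IsIso ((pb (Mult.chart 1 R 0).ι).map (a R d m ≫ (Mult.mulX (0 : Fin 2)).app (B R d m)))
    exact h.symm ▸ IsIso.comp_isIso' ‹_› ‹_›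

variable (R)

/-- Multiplication by `y`. -/
def b (d : ℤ) (m : ℕ) : B R d m ⟶ (tensorBy (tw 1 R 1)).obj (B R d m) :=
  (Mult.mulX (1 : Fin 2)).app (B R d m)

/-- Multiplication by `y` at the source. -/
def b₀ (d : ℤ) : tw 1 R d ⟶ (tensorBy (tw 1 R 1)).obj (tw 1 R d) :=
  (Mult.mulX (1 : Fin 2)).app (tw 1 R d)

theorem square (d : ℤ) (m : ℕ) :
    a R d m ≫ b R d m = b₀ R d ≫ (tensorBy (tw 1 R 1)).map (a R d m) :=
  (Mult.mulX (1 : Fin 2)).naturality (a R d m)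

/-- The quotient `O(d + m) ⊞ O(d + 1) ⟶ O(d + m + 1)`. -/
def corner (d : ℤ) (m : ℕ) :
    cokernel (biprod.lift (a R d m) (b₀ R d)) ⟶ (tensorBy (tw 1 R 1)).obj (B R d m) :=
  cokernel.desc _ (biprod.desc (b R d m) (-(tensorBy (tw 1 R 1)).map (a R d m)))
    (by rw [biprod.lift_desc, Preadditive.comp_neg, square, add_neg_cancel])

theorem isIso_pb_pair (d : ℤ) (m : ℕ) (t : Fin 2) :
    IsIso ((pb (Mult.chart 1 R t).ι).map (a R d m)) ∧
        IsIso ((pb (Mult.chart 1 R t).ι).map ((tensorBy (tw 1 R 1)).map (a R d m))) ∨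
      IsIso ((pb (Mult.chart 1 R t).ι).map (b₀ R d)) ∧ IsIso ((pb (Mult.chart 1 R t).ι).map (b R d m)) := by
  fin_cases t
  · exact Or.inl ⟨isIso_pb_a d m, isIso_pb_tmap _ _ (isIso_pb_a d m)⟩
  · exact Or.inr ⟨Mult.isIso_pb_mulX _ _, Mult.isIso_pb_mulX _ _⟩

theorem iSup_chart : ⨆ t, Mult.chart 1 R t = ⊤ :=
  eq_top_iff.mpr fun x _ => Opens.mem_iSup.mpr (Mult.exists_mem_chart x)

theorem isIso_corner (d : ℤ) (m : ℕ) : IsIso (corner R d m) := by
  refine Modules.Local.isIso_of_restrict (Mult.chart 1 R) (iSup_chart R) _ fun t => ?_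
  refine Coker.isIso_map_corner (Scheme.Modules.restrictFunctor (Mult.chart 1 R t).ι) _ _ _ _
    (square R d m) ?_
  have e := fun {M N : (CohB1.ProjSpace 1 R).Modules} (φ : M ⟶ N) (h : IsIso ((pb (Mult.chart 1 R t).ι).map φ)) =>
    (NatIso.isIso_map_iff (Scheme.Modules.restrictFunctorIsoPullback (Mult.chart 1 R t).ι) φ).2 h
  rcases isIso_pb_pair R d m t with ⟨h₁, h₂⟩ | ⟨h₁, h₂⟩
  · exact Or.inl ⟨e _ h₁, e _ h₂⟩
  · exact Or.inr ⟨e _ h₁, e _ h₂⟩

theorem exists_mem_chart' (x : CohB1.ProjSpace 1 R) : x ∈ Mult.chart 1 R 0 ∨ x ∈ Mult.chart 1 R 1 := by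
  obtain ⟨t, ht⟩ := Mult.exists_mem_chart x
  fin_cases t
  · exact Or.inl ht
  · exact Or.inr ht

/-- `O(d)` on `P^1_S` comes from `O(d)` on `P^1_R`. -/
theorem nonempty_twistOver (d : ℤ) :
    Nonempty ((Scheme.Modules.pullback (ProjSpace.BaseChange.overSpecIso 1 R).hom).obj (tw 1 R d) ≅
      Twist.twistOver 1 (Spec (CommRingCat.of R)) d) := by
  obtain ⟨e⟩ := ProjSpace.TwistBC.nonempty_iso 1 (ProjSpace.BaseChange.ulz R) d
  exact ⟨(Scheme.Modules.pullback _).mapIso e.symm ≪≫ (Scheme.Modules.pullbackComp _ _).app _ ≪≫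
    (Scheme.Modules.pullbackCongr (ProjSpace.BaseChange.overSpecIso_hom_projMap 1 R)).app _⟩

end Groth.Agent.Lib.JumpP1.Model
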